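import Cfsg.Agent.H0.TC
set_option maxRecDepth 100000
namespace H0.TCSz80
open H0
noncomputable def r0 : TC.WTr := (.node (.node (.node (.node (.node (.node (.leaf [0] 0 0 false) (.leaf [0, 2, 8, 0, 5, 5, 0, 7, 5] 35 9 false)) (.leaf [4] 3 0 false)) (.node (.leaf [2] 1 0 false) (.leaf [0, 7, 5, 7, 0, 2, 8, 0, 5] 35 5 false))) (.node (.node (.node (.leaf [6, 4, 4, 5, 0, 7, 0, 8] 30 4 false) (.leaf [5, 4, 7, 6, 4] 17 3 true)) (.leaf [6, 7, 0, 6, 0, 8, 8, 0] 32 0 true)) (.node (.leaf [1] 1 1 false) (.leaf [0, 8, 8, 0, 4, 6, 7, 0] 32 4 true)))) (.node (.node (.node (.node (.leaf [4, 6, 6, 7, 0, 1, 6, 6, 7] 33 5 false) (.leaf [7] 7 1 false)) (.leaf [8, 8, 8, 4, 6, 8] 16 3 false)) (.node (.leaf [0, 5, 3, 3, 0, 5, 3] 29 6 true) (.leaf [4, 8, 5, 4, 7] 17 1 true))) (.node (.node (.node (.leaf [2] 1 0 false) (.leaf [3, 8, 8, 3, 5, 4] 18 5 true)) (.leaf [3, 5, 3, 7, 4] 12 2 true))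 (.node (.leaf [8, 0, 1, 5, 0, 1, 0, 5] 31 7 false) (.leaf [4, 5, 3, 5, 3] 12 0 true))))) (.node (.node (.node (.node (.node (.leaf [7, 1, 0, 8, 6, 8, 0, 6, 6] 35 6 true) (.leaf [4, 6, 0, 2, 0, 6, 2, 0] 31 0 true)) (.leaf [3] 3 1 false)) (.node (.leaf [2, 2, 2] 23 0 true) (.leaf [0, 1, 0, 5, 3, 8, 0, 1] 31 2 false))) (.node (.node (.node (.leaf [0, 1, 0, 1, 0, 1, 0, 1, 0] 26 1 false) (.leaf [6, 6, 4, 7, 7, 7, 6] 22 1 false)) (.leaf [3] 3 1 false)) (.node (.leaf [1] 24 0 true) (.leaf [4, 6, 3, 8, 4] 12 1 false)))) (.node (.node (.node (.node (.leaf [5, 5, 0, 7, 5, 7, 0, 2, 8] 35 3 false) (.leaf [6, 6, 6, 7, 6, 8, 8] 21 7 false)) (.leaf [7, 3, 6, 4, 7, 7] 18 0 false)) (.node (.leaf [1] 1 1 false) (.leaf [8, 6, 6, 4, 7, 7, 7] 22 0 false))) (.node (.node (.leaf [2] 1 0 false) (.leaf [3, 0, 7, 7, 0, 5, 0, 8] 32 7 false)) (.node (.leaf [7, 6, 8, 8, 3, 6] 19 4 true) (.leaf [7,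 4, 7, 3, 6, 4] 18 5 false))))))
noncomputable def r1 : TC.WTr := (.node (.node (.node (.node (.node (.node (.leaf [1, 0, 5, 3, 8, 0, 1, 5] 31 3 false) (.leaf [5, 5, 7, 0, 7, 5, 5, 7, 0] 34 0 true)) (.leaf [4] 3 0 false)) (.node (.leaf [1] 1 1 false) (.leaf [4, 7, 7, 5, 8, 4] 19 3 false))) (.node (.node (.node (.leaf [3] 24 1 true) (.leaf [8, 8, 8, 8, 8, 8] 9 0 true)) (.leaf [3] 3 1 false)) (.node (.leaf [1] 1 1 false) (.leaf [4, 4, 5, 0, 7, 0, 8, 0] 30 5 false)))) (.node (.node (.node (.node (.leaf [7, 5, 5, 7, 0, 7, 5, 5, 7] 34 4 true) (.leaf [8, 0, 4, 6, 7, 0, 6, 0] 32 6 true)) (.leaf [4, 4, 4] 10 0 true)) (.node (.leaf [8, 0, 5, 5, 0, 7, 5, 7, 0] 35 1 false) (.leaf [7, 4, 8, 3, 5, 3] 20 3 false))) (.node (.node (.leaf [2] 1 0 false) (.leaf [8, 3, 6, 7, 3] 17 4 false)) (.node (.leaf [6, 7, 3, 5, 8] 17 0 false) (.leaf [7, 5, 8, 5, 5, 5, 7] 21 1 true))))) (.node (.node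 (.node (.node (.node (.leaf [1, 5, 0, 1, 0, 5, 3, 8] 31 0 false) (.leaf [8] 7 0 false)) (.leaf [5, 3, 5, 3, 7] 12 1 true)) (.node (.leaf [0, 8, 5, 5, 3, 0, 8, 5, 5] 33 8 true) (.leaf [5] 5 1 false))) (.node (.node (.node (.leaf [0, 8, 6, 8, 0, 6, 6, 0, 7] 35 8 true) (.leaf [3, 5, 4, 8, 3, 8] 18 1 true)) (.leaf [3, 8, 0, 1, 5, 0, 1, 0] 31 6 false)) (.node (.leaf [3, 3, 3] 10 0 false) (.leaf [5] 5 1 false)))) (.node (.node (.node (.node (.leaf [7, 0, 8, 0, 6, 4, 4, 5] 30 0 false) (.leaf [4, 5, 4, 7, 7, 5] 19 1 false)) (.leaf [8, 5, 4, 7, 6] 17 2 true)) (.node (.leaf [1] 1 1 false) (.leaf [8, 8, 3, 6, 3, 7] 19 6 true))) (.node (.node (.leaf [2] 1 0 false) (.leaf [8, 4, 5, 4, 7, 7] 19 0 false)) (.node (.leaf [5, 3, 7, 4, 5] 12 3 true) (.leaf [3, 7, 5, 3, 7, 7] 16 2 true))))))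
noncomputable def r2 : TC.WTr := (.node (.node (.node (.node (.node (.node (.leaf [8, 0, 6, 4, 4, 5, 0, 7] 30 2 false) (.leaf [0, 8, 0, 6, 4, 4, 5, 0] 30 1 false)) (.leaf [4] 3 0 false)) (.node (.leaf [2] 1 0 false) (.leaf [5, 5, 5, 5, 5, 5] 11 0 false))) (.node (.node (.node (.leaf [2] 1 0 false) (.leaf [0, 4, 6, 7, 0, 6, 0, 8] 32 7 true)) (.leaf [3] 3 1 false)) (.node (.leaf [1] 1 1 false) (.leaf [3, 8, 4, 6, 4] 12 3 false)))) (.node (.node (.node (.node (.leaf [5, 0, 8, 5, 3, 0, 7, 7] 32 3 false) (.leaf [5, 3, 0, 7, 7, 0, 5, 0] 32 6 false)) (.leaf [8, 3, 8, 8, 3, 5] 18 4 true)) (.node (.leaf [0, 7, 4, 6, 0, 2, 0, 6] 31 7 true) (.leaf [6, 6, 6, 6, 6, 6] 11 0 true))) (.node (.node (.leaf [2] 1 0 false) (.leaf [3, 7, 4, 5, 3] 12 4 true)) (.node (.leaf [5, 8, 3, 6, 7] 17 3 false) (.leaf [7, 3, 7, 5, 3, 7] 16 1 true))))) (.node (.node (.node (.node (.node (.leaf [5, 3, 3,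 0, 5, 3, 2] 29 7 true) (.leaf [8] 7 0 false)) (.leaf [2] 24 1 false)) (.node (.leaf [0, 6, 2, 0, 7, 4, 6, 0] 31 4 true) (.leaf [3, 7, 7, 7, 3, 7] 16 5 true))) (.node (.node (.node (.leaf [5, 0, 1, 0, 5, 3, 8, 0] 31 1 false) (.leaf [0, 6, 4, 4, 5, 0, 7, 0] 30 3 false)) (.leaf [6] 5 0 false)) (.node (.leaf [3, 0, 5, 3, 2, 0, 5] 29 1 true) (.leaf [3, 7, 6, 8, 8, 3] 19 3 true)))) (.node (.node (.node (.node (.leaf [4, 6, 7, 0, 6, 0, 8, 8] 32 8 true) (.leaf [3, 6, 7, 3, 5] 17 5 false)) (.leaf [7, 6, 4, 8, 5] 17 5 true)) (.node (.leaf [1] 1 1 false) (.leaf [0, 7, 1, 0, 8, 6, 8, 0, 6] 35 5 true))) (.node (.node (.leaf [2] 1 0 false) (.leaf [5, 7, 7, 7, 5, 8, 5] 21 6 true)) (.node (.leaf [6, 4, 7, 7, 4, 7] 18 2 false) (.leaf [7, 7, 5, 8, 5, 5, 5] 21 0 true))))))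
noncomputable def r3 : TC.WTr := (.node (.node (.node (.node (.node (.node (.leaf [7, 4, 6, 0, 2, 0, 6, 2] 31 8 true) (.leaf [7, 7, 7, 7, 7, 7] 9 0 false)) (.leaf [4] 3 0 false)) (.node (.leaf [4] 24 0 false) (.leaf [5, 0, 7, 5, 7, 0, 2, 8, 0] 35 4 false))) (.node (.node (.node (.leaf [1, 1, 1] 23 0 false) (.leaf [4, 6, 8, 4, 8, 8] 16 6 false)) (.leaf [3] 3 1 false)) (.node (.leaf [4] 3 0 false) (.leaf [6, 7, 0, 4, 6, 6, 7, 0, 1] 33 2 false)))) (.node (.node (.node (.node (.leaf [5, 3, 8, 0, 1, 5, 0, 1] 31 5 false) (.leaf [8, 3, 6, 3, 7, 6] 19 0 true)) (.leaf [6, 3, 8, 4, 6] 12 2 false)) (.node (.leaf [1] 1 1 false) (.leaf [8, 0, 6, 6, 0, 7, 1, 0, 8] 35 1 true))) (.node (.node (.leaf [2] 1 0 false) (.leaf [4, 7, 6, 4, 8] 17 4 true)) (.node (.leaf [5, 3, 6, 7, 4, 8] 20 0 false) (.leaf [1, 0, 8, 6, 8, 0, 6, 6, 0] 35 7 true))))) (.node (.node (.node (.node (.node (.leaf [8,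 8, 0, 4, 6, 7, 0, 6] 32 5 true) (.leaf [8] 7 0 false)) (.leaf [6, 4, 6, 3, 8] 12 0 false)) (.node (.leaf [0, 2, 2, 0, 2, 2, 0, 1, 0, 1, 1, 0, 5, 0] 25 2 true) (.leaf [7, 0, 4, 6, 6, 7, 0, 1, 6] 33 3 false))) (.node (.node (.node (.leaf [4, 6, 0, 4, 4, 6, 0] 29 1 false) (.leaf [0, 6, 3, 3, 5, 0, 7, 0] 30 7 true)) (.leaf [7, 0, 7, 5, 5, 7, 0, 7, 5] 34 2 true)) (.node (.leaf [8, 5, 4, 6, 4, 7] 20 1 true) (.leaf [8] 7 0 false)))) (.node (.node (.node (.node (.leaf [8, 6, 8, 0, 6, 6, 0, 7, 1] 35 9 true) (.leaf [4, 8, 8, 8, 4, 6] 16 2 false)) (.leaf [6, 0, 4, 4, 6, 0, 1] 29 2 false)) (.node (.leaf [1] 1 1 false) (.leaf [4, 7, 3, 8, 5, 4] 20 5 true))) (.node (.node (.leaf [2] 1 0 false) (.leaf [7, 7, 7, 5, 8, 5, 5] 21 7 true)) (.node (.leaf [8, 4, 6, 4, 6] 12 4 false) (.leaf [3, 5, 8, 3, 6] 17 2 false))))))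
noncomputable def tS : Tr := (.leaf (nat_lit 0xfff47f0e26c26536467967d76c8543fff6fb84381d2bc1626fd6fd0e07d5fff7387d57c57dd7ce15f0dd7ce77dfff0db7177057447d370c810710777fff7595436c534153715d0db2ad7c4fff47558f6990d846f6835c04f17d1fff5d15050d73e61af54c7d62315bbfff78e70f73560b7de1590d779d78ffff5295817104f958f7886848190d7fff79b0d56bb63c6392aa32c6bb81efff68d7430d53ad52b5ed66f5ad57efff6476b738975446481c7595680d5fff6d36d06510d44f56356b75775a9fff1ee6f90d45b25263ee4705a881afff54e4bd2881dd74b1540d25c5755fff3ed7555ec6c475956856885d0d2fff5b363032c0d15be79b81d640570fff50f68e0d029a4f778f609579595fff41d4d20cf1db1596996991db57cfff0ce16556b4bb2593743f62db602fff5ce5362e20ce4ab4774f952d56bfff4830cd6737177542f43766d2645fff4e946c70c7596d55e55e56120cdfff4680cc5002b13372012013375ccfff0cc1a079a71b6f56076077775affff79323b2f481d3bb14e0cc3bb542fff2a90cb54c3b04be49f5214be81bfff0cb39b3a93a139f316398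39f611fff4214cd6900cb41f5435434a16b7fff8a041c47443314d5913070cb4f4fff4ff0893736f56d954854875b295fff42b4244e669010b6906900894b5fff1b36d925937d30210b0893027dcfff1442f14053654433622e0443089fff74f44118f0884e14cd4cd4e139bfff71060708810b68d1c514368d67dfff21771960a21710a296296088194fff4bc3f018e37229610a0883185c6fff1ef08773e6c51c47447441427dbfff0873e63de7963dc4ff4ff3dc5fffff6891413ad0871c2292292140114fff4294bb44a33810958b58b087192fff5274bc1b85c364e10908764e540fff10a58d13f64932b29c29c32b087fff4720861b413e1bf1b41b413d13cfff0864e93f45355454c75cb5c7589fff13b46108613a25e5885882e0139fff10e4751381371d23723f41d2086fff4220852fa22818f2b72b721115dfff0852651e34291b8475475136135fff5225631340855c05324b06421e3fff37247f0851334f93a74294f93edfff3f20843da1322652e62e62e71defff08413113039a14f1972191d12edfff12f15610b08437219119137212efff12d12c0841e51ad1d71d712b107fff12a1291281602e31a9127261084fff0e504216214f1651660e40e30e2fff04215a0e10e01601610df0de0c9fff0dd0dc0db04215b15c0da0d90d8fff0d70d60420d51891061881890d4fff0d30d20d10d00c41491cb04214efff0cf0ce0cd0cc1490c40421490cbfff089088087086106107085084000fff000000000000000000082041042))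
noncomputable def tJ : Tr := (.leaf (nat_lit 0x1c0a93cc3380100800d00020160a20000d3003913d00bb0501190508800035eb0dc4b280e8048ec380e6000d96256600840001af007260000f5b1c001419380b80186700006014d862560038000a80060004c14100024748000300a992d2b000020000e02c3a12c0069d4100020d140c40eea18007300a0c28a000006014190240100100d1d09128005140001f4748000381d72806800000000800000105ce056007000210201818002004081000000001c056702640000e008100900050180201407002470040008000018200480702f254180101820008cd0803950800080000e4200000000c001872500003d040101cc000342000016040340001007451000100cc1d0007002e00000400100b84800002101400002e00800408000000200dc62000ab000370a4001000008020b9c00c2400004004030600140001a60001801401000000800000c01c1c049808300400402601000008005020009a003000c0282600140101c06a0004008004028000c440000500001a0001080c000280000201000000020000743801200000000080480000000004a000012000000180004800100400800000023048020000000032080000000000000900118c63188020))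
noncomputable def tQ : Tr := (.leaf (nat_lit 0x0))
noncomputable def tR : TC.WTr := (.node (.node r0 r1) (.node r2 r3))
def hl : List ℕ := [3, 4, 4, 3, 5, 6, 6, 5, 7, 8, 8, 7]
def B : List (List ℕ) := [[0, 0], [1, 2], [2, 1], [3, 4], [4, 3], [5, 6], [6, 5], [7, 8], [8, 7], [7, 7, 7, 7, 7, 7, 7], [3, 3, 3, 3], [5, 5, 5, 5, 5, 5, 5], [4, 6, 4, 6, 3, 8], [3, 5, 3, 5, 3, 5, 3, 5, 3, 5, 3, 5, 3, 5], [3, 5, 4, 6, 3, 5, 4, 6, 3, 5, 4, 6, 3, 5, 4, 6], [3, 6, 3, 6, 3, 6, 3, 6, 3, 6, 3, 6, 3, 6], [4, 6, 8, 4, 8, 8, 8], [3, 6, 7, 3, 5, 8], [4, 7, 3, 6, 4, 7, 7], [5, 8, 4, 5, 4, 7, 7], [3, 5, 3, 6, 7, 4, 8], [6, 6, 6, 7, 6, 8, 8, 8], [6, 8, 6, 6, 4, 7, 7, 7], [1, 1, 1, 1], [2, 4], [0, 2, 2, 0, 2, 0, 1, 1, 0, 1, 1, 0, 1, 0, 6], [0, 1, 0, 1, 0, 1, 0, 1, 0, 1], [0, 1, 0, 2, 0, 1, 0, 2, 0, 1, 0, 2, 0, 1, 0, 2, 0, 1, 0, 2, 0, 1, 0, 2, 0, 1, 0, 2], [0, 2, 0, 2, 0, 2, 0, 2, 0, 2], [0, 1,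 4, 6, 0, 4, 4, 6], [0, 7, 0, 8, 0, 6, 4, 4, 5], [0, 1, 5, 0, 1, 0, 5, 3, 8], [0, 7, 7, 0, 5, 0, 8, 5, 3], [0, 1, 6, 6, 7, 0, 4, 6, 6, 7], [0, 8, 6, 6, 8, 0, 8, 6, 6, 8], [0, 2, 8, 0, 5, 5, 0, 7, 5, 7]]
def subs : List (List ℕ) := [[3], [4], [5], [6], [7], [8]]
def ex : List (List ℕ) := []
def inv (x : ℕ) : ℕ := [0, 2, 1, 4, 3, 6, 5, 8, 7].getD x 0
noncomputable def rS : ℕ → ℕ := rowOf tS (nat_lit 7) (nat_lit 127) (nat_lit 120) (nat_lit 1329227995784915872903807060280344575)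
noncomputable def rJ : ℕ → ℕ := rowOf tJ (nat_lit 7) (nat_lit 127) (nat_lit 55) (nat_lit 36028797018963967)
noncomputable def C : TC.Cfg where
  S := look rS (nat_lit 12) (nat_lit 4095)
  J := look rJ (nat_lit 5) (nat_lit 31)
  Q := lookQ tQ (nat_lit 7) (nat_lit 1) (nat_lit 1)
  R := tR.get
  hl := fun x => hl.contains x
  n := (nat_lit 65)
  M := (nat_lit 65)
  top := (nat_lit 2210)
  nl := (nat_lit 9)
  need := (nat_lit 9)
  nr := (nat_lit 17)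
theorem k0 : TC.chkRange C 0 2 = true := by decide +kernel
theorem rows0 : ∀ c < (0 + 2) * 64, c < C.M → TC.chkRow C c = true :=
  TC.rows_step (TC.rows_zero C) k0
theorem main {G : Type*} [Group G] (g : ℕ → G) (hB : ∀ r ∈ B, ev g r = 1) (H : Subgroup G)
    (hH : ∀ w ∈ subs, ev g w ∈ H) :
    H.relIndex (Subgroup.closure (g '' {x | x < 9})) ≠ 0 ∧
      H.relIndex (Subgroup.closure (g '' {x | x < 9})) ≤ 65 :=
  TC.index_le C B subs ex inv hl tR.hint rfl (by decide +kernel) (by decide +kernel)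
    (TC.rows_done rows0 (by decide +kernel)) g hB H hH
end H0.TCSz80
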